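import Groth.Agent.DCohMV.Leray
import Groth.Agent.DQPush.Restrict

/-!
Restrictions of direct images of K-injective complexes compute derived sections.
-/

set_option autoImplicit false
set_option linter.style.haveILetI false
set_option backward.isDefEq.respectTransparency false
set_option backward.isDefEq.respectTransparency.types false

universe u

open CategoryTheory Limits AlgebraicGeometry

namespace Groth.Agent.PushAcyc

attribute [local instance] HasDerivedCategory.standard

open DCohMV

lemma isWeakKInj_of_iso {X : Scheme.{u}} {J J' : HomotopyCategory X.Modules (ComplexShape.up ℤ)} (e : J ≅ J')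
    (h : IsWeakKInj J) : IsWeakKInj J' := fun T hT hTa m φ => by
  have h' := h T hT hTa m (φ ≫ ((shiftFunctor _ m).mapIso e).inv)
  rwa [← Preadditive.IsIso.comp_right_eq_zero φ ((shiftFunctor _ m).mapIso e).inv]

theorem isWeakKInj_restrict_push {X Y : Scheme.{u}} (f : X ⟶ Y) (B : CochainComplex X.Modules ℤ)
    [B.IsKInjective] (U : Y.Opens) :
    IsWeakKInj ((quot (U : Scheme.{u})).obj ((DCoh.restrictCx U).obj
      (((Scheme.Modules.pushforward f).mapHomologicalComplex (ComplexShape.up ℤ)).obj B))) := by
  haveI := DQPush.isKInjective_restrict (f ⁻¹ᵁ U) B ‹_›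
  exact isWeakKInj_of_iso ((DQPush.khIso f U).app ((quot X).obj B)).symm
    (isWeakKInj_push (f ∣_ U) (((Scheme.Modules.restrictFunctor (f ⁻¹ᵁ U).ι).mapHomologicalComplex
      (ComplexShape.up ℤ)).obj B))

end Groth.Agent.PushAcyc
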